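import Mathlib
import Groth.Agent.Lib.Helper8.NodeCpl.Approx

/-!
# Completed local structure of a (possibly non-split) node: successive approximation (helper8)

`A → B` a local homomorphism of Noetherian local rings, `Q = a u² + b uv + c v²` a binary quadratic
form over `B̂` with invertible discriminant, `û v̂ ∈ B̂` with `Q(û, v̂) ∈ 𝔪_A B̂` and
`𝔪_B̂ = (û, v̂) + 𝔪_A B̂`.  We construct `x y ∈ B̂`, `α ∈ 𝔪_A Â` with `Q(x, y) = θ α`,
`x ≡ û`, `y ≡ v̂` mod `𝔪_A B̂`.  (Generalises `NodeCpl.Approx`, the case `Q = uv`.)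
-/

set_option autoImplicit false
universe u

namespace Groth.Agent.H8.NodeQ

open IsLocalRing
open Groth.Agent.H8.NodeCpl

section Form

variable {R : Type*} [CommRing R]

/-- the binary quadratic form -/
def Qf (a b c x y : R) : R := a * x ^ 2 + b * x * y + c * y ^ 2

/-- its partial derivative in the first variable -/
def Qx (a b x y : R) : R := 2 * a * x + b * y

/-- its partial derivative in the second variable -/
def Qy (b c x y : R) : R := b * x + 2 * c * y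

theorem Qf_sub (a b c x y p q : R) :
    Qf a b c (x - p) (y - q) =
      Qf a b c x y - Qx a b x y * p - Qy b c x y * q + Qf a b c p q := by
  unfold Qf Qx Qy; ring

theorem Qf_sub_Qf (a b c x y x' y' : R) :
    Qf a b c x y - Qf a b c x' y' =
      (x - x') * (a * (x + x') + b * y) + (y - y') * (b * x' + c * (y + y')) := by
  unfold Qf; ring

theorem Qf_mem {I : Ideal R} (a b c : R) {p q : R} {n : ℕ} (hp : p ∈ I ^ n) (hq : q ∈ I ^ n) :
    Qf a b c p q ∈ I ^ (n + n) := by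
  have e : Qf a b c p q = a * (p * p) + b * (p * q) + c * (q * q) := by unfold Qf; ring
  rw [e, pow_add]
  exact add_mem (add_mem (Ideal.mul_mem_left _ _ (Ideal.mul_mem_mul hp hp))
    (Ideal.mul_mem_left _ _ (Ideal.mul_mem_mul hp hq)))
    (Ideal.mul_mem_left _ _ (Ideal.mul_mem_mul hq hq))

end Form

variable {A B : Type u} [CommRing A] [IsLocalRing A] [IsNoetherianRing A]
  [CommRing B] [IsLocalRing B] [IsNoetherianRing B] [Algebra A B] [IsLocalHom (algebraMap A B)]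

local notation "Bh" => AdicCompletion (IsLocalRing.maximalIdeal B) B
local notation "Ah" => AdicCompletion (IsLocalRing.maximalIdeal A) A
local notation "IBh" => Ideal.map (algebraMap A (AdicCompletion (IsLocalRing.maximalIdeal B) B))
  (IsLocalRing.maximalIdeal A)
local notation "IAh" => Ideal.map (algebraMap A (AdicCompletion (IsLocalRing.maximalIdeal A) A))
  (IsLocalRing.maximalIdeal A)

theorem exists_decomp (ca cb cc dl : Bh) (hdl : dl * (cb ^ 2 - 4 * ca * cc) = 1)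
    (N : Ideal Bh) (hres : ∀ b : Bh, ∃ e : A, b - algebraMap A Bh e ∈ N)
    (uh vh : Bh) (hgen : N = Ideal.span {uh, vh} ⊔ IBh)
    (x y : Bh) (hx : x - uh ∈ IBh) (hy : y - vh ∈ IBh) (b : Bh) :
    ∃ (e : A) (p q : Bh),
      b - (algebraMap A Bh e + Qx ca cb x y * p + Qy cb cc x y * q) ∈ IBh := by
  obtain ⟨e, he⟩ := hres b
  rw [hgen] at he
  obtain ⟨w, hw, z, hz, hwz⟩ := Submodule.mem_sup.mp he
  obtain ⟨p0, q0, hpq⟩ := Ideal.mem_span_pair.mp hw
  refine ⟨e, dl * (cb * q0 - 2 * cc * p0), dl * (cb * p0 - 2 * ca * q0), ?_⟩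
  have e1 : b - (algebraMap A Bh e +
      Qx ca cb x y * (dl * (cb * q0 - 2 * cc * p0)) +
      Qy cb cc x y * (dl * (cb * p0 - 2 * ca * q0))) =
      z - (x - uh) * p0 - (y - vh) * q0 := by
    unfold Qx Qy
    linear_combination (-1 : Bh) * hwz - hpq - (x * p0 + y * q0) * hdl
  rw [e1]
  exact sub_mem (sub_mem hz (Ideal.mul_mem_right _ _ hx)) (Ideal.mul_mem_right _ _ hy)

theorem exists_decomp_pow (g1 g2 : Bh)
    (hdec : ∀ b : Bh, ∃ (e : A) (p q : Bh),
      b - (algebraMap A Bh e + g1 * p + g2 * q) ∈ IBh)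
    (n : ℕ) (δ : Bh) (hδ : δ ∈ IBh ^ n) :
    ∃ (a' : Ah) (P Q : Bh), a' ∈ IAh ^ n ∧ P ∈ IBh ^ n ∧ Q ∈ IBh ^ n ∧
      δ - (θ A B a' + g1 * P + g2 * Q) ∈ IBh ^ (n + 1) := by
  rw [← Ideal.map_pow] at hδ
  induction hδ using Submodule.span_induction with
  | mem d hd =>
    obtain ⟨c, hc, rfl⟩ := hd
    refine ⟨algebraMap A Ah c, 0, 0, ?_, zero_mem _, zero_mem _, ?_⟩
    · rw [← Ideal.map_pow]
      exact Ideal.mem_map_of_mem _ hc
    · rw [θ_of, mul_zero, mul_zero, add_zero, add_zero, sub_self]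
      exact zero_mem _
  | zero =>
    refine ⟨0, 0, 0, zero_mem _, zero_mem _, zero_mem _, ?_⟩
    rw [map_zero, mul_zero, mul_zero, add_zero, add_zero, sub_self]
    exact zero_mem _
  | add d d' _ _ ih ih' =>
    obtain ⟨a1, P1, Q1, h1, h2, h3, h4⟩ := ih
    obtain ⟨a2, P2, Q2, k1, k2, k3, k4⟩ := ih'
    refine ⟨a1 + a2, P1 + P2, Q1 + Q2, add_mem h1 k1, add_mem h2 k2, add_mem h3 k3, ?_⟩
    have e1 : d + d' - (θ A B (a1 + a2) + g1 * (P1 + P2) + g2 * (Q1 + Q2)) =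
        (d - (θ A B a1 + g1 * P1 + g2 * Q1)) + (d' - (θ A B a2 + g1 * P2 + g2 * Q2)) := by
      rw [map_add]; ring
    rw [e1]
    exact add_mem h4 k4
  | smul b d _ ih =>
    obtain ⟨a1, P1, Q1, h1, h2, h3, h4⟩ := ih
    obtain ⟨e, p, q, hz⟩ := hdec b
    have hθa : θ A B a1 ∈ IBh ^ n := by
      rw [← map_θ_pow]
      exact Ideal.mem_map_of_mem _ h1
    refine ⟨algebraMap A Ah e * a1, b * P1 + p * θ A B a1,
      b * Q1 + q * θ A B a1, Ideal.mul_mem_left _ _ h1,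
      add_mem (Ideal.mul_mem_left _ _ h2) (Ideal.mul_mem_left _ _ hθa),
      add_mem (Ideal.mul_mem_left _ _ h3) (Ideal.mul_mem_left _ _ hθa), ?_⟩
    have e1 : b • d - (θ A B (algebraMap A Ah e * a1) +
        g1 * (b * P1 + p * θ A B a1) + g2 * (b * Q1 + q * θ A B a1)) =
        b * (d - (θ A B a1 + g1 * P1 + g2 * Q1)) +
          (b - (algebraMap A Bh e + g1 * p + g2 * q)) * θ A B a1 := by
      rw [smul_eq_mul, map_mul, θ_of]; ring
    rw [e1]
    refine add_mem (Ideal.mul_mem_left _ _ h4) ?_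
    rw [pow_succ']
    exact Ideal.mul_mem_mul hz hθa

theorem exists_step (ca cb cc : Bh) (n : ℕ) (hn : 1 ≤ n) (x y : Bh) (a : Ah)
    (hdec : ∀ b : Bh, ∃ (e : A) (p q : Bh),
      b - (algebraMap A Bh e + Qx ca cb x y * p + Qy cb cc x y * q) ∈ IBh)
    (hxy : Qf ca cb cc x y - θ A B a ∈ IBh ^ n) :
    ∃ (x' y' : Bh) (a' : Ah), x' - x ∈ IBh ^ n ∧ y' - y ∈ IBh ^ n ∧ a' - a ∈ IAh ^ n ∧
      Qf ca cb cc x' y' - θ A B a' ∈ IBh ^ (n + 1) := by
  obtain ⟨a1, P, Q, h1, h2, h3, h4⟩ := exists_decomp_pow _ _ hdec n _ hxy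
  refine ⟨x - P, y - Q, a + a1, ?_, ?_, ?_, ?_⟩
  · have : x - P - x = -P := by ring
    rw [this]; exact neg_mem h2
  · have : y - Q - y = -Q := by ring
    rw [this]; exact neg_mem h3
  · have : a + a1 - a = a1 := by ring
    rw [this]; exact h1
  · have e1 : Qf ca cb cc (x - P) (y - Q) - θ A B (a + a1) =
        (Qf ca cb cc x y - θ A B a - (θ A B a1 + Qx ca cb x y * P + Qy cb cc x y * Q)) +
          Qf ca cb cc P Q := by
      rw [map_add, Qf_sub]; ring
    rw [e1]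
    refine add_mem h4 ?_
    exact Ideal.pow_le_pow_right (by omega) (Qf_mem ca cb cc h2 h3)

/-- The successive approximation: `Q(x, y) = θ α`. -/
theorem exists_xy (ca cb cc dl : Bh) (hdl : dl * (cb ^ 2 - 4 * ca * cc) = 1)
    (N : Ideal Bh) (hres : ∀ b : Bh, ∃ e : A, b - algebraMap A Bh e ∈ N)
    (uh vh : Bh) (hgen : N = Ideal.span {uh, vh} ⊔ IBh)
    (huv : Qf ca cb cc uh vh ∈ IBh) :
    ∃ (x y : Bh) (α : Ah), x - uh ∈ IBh ∧ y - vh ∈ IBh ∧ α ∈ IAh ∧
      Qf ca cb cc x y = θ A B α := by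
  classical
  haveI hcB := isAdicComplete_IB A B
  haveI hcA := AdicCompletion.isAdicComplete_self (maximalIdeal A)
    (IsNoetherian.noetherian (maximalIdeal A))
  let P : ℕ → (Bh × Bh × Ah) → Prop := fun k t =>
    t.1 - uh ∈ IBh ∧ t.2.1 - vh ∈ IBh ∧ t.2.2 ∈ IAh ∧
      Qf ca cb cc t.1 t.2.1 - θ A B t.2.2 ∈ IBh ^ (k + 1)
  let R : ℕ → (Bh × Bh × Ah) → (Bh × Bh × Ah) → Prop := fun k t t' =>
    t'.1 - t.1 ∈ IBh ^ (k + 1) ∧ t'.2.1 - t.2.1 ∈ IBh ^ (k + 1) ∧
      t'.2.2 - t.2.2 ∈ IAh ^ (k + 1)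
  have h0 : P 0 (uh, vh, 0) := by
    refine ⟨by simp, by simp, zero_mem _, ?_⟩
    show Qf ca cb cc uh vh - θ A B 0 ∈ _
    rw [map_zero, sub_zero, zero_add, pow_one]
    exact huv
  have hstep : ∀ k t, P k t → ∃ t', P (k + 1) t' ∧ R k t t' := by
    rintro k ⟨x, y, a⟩ ⟨hx, hy, ha, hxy⟩
    obtain ⟨x', y', a', h1, h2, h3, h4⟩ :=
      exists_step ca cb cc (k + 1) (by omega) x y a
        (fun b => exists_decomp ca cb cc dl hdl N hres uh vh hgen x y hx hy b) hxy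
    have hle : IBh ^ (k + 1) ≤ IBh := Ideal.pow_le_self (by omega)
    have hle' : IAh ^ (k + 1) ≤ IAh := Ideal.pow_le_self (by omega)
    refine ⟨(x', y', a'), ⟨?_, ?_, ?_, h4⟩, h1, h2, h3⟩
    · have : x' - uh = (x' - x) + (x - uh) := by ring
      show x' - _ ∈ _
      rw [this]; exact add_mem (hle h1) hx
    · have : y' - vh = (y' - y) + (y - vh) := by ring
      show y' - _ ∈ _
      rw [this]; exact add_mem (hle h2) hy
    · have : a' = (a' - a) + a := by ring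
      show a' ∈ _
      rw [this]; exact add_mem (hle' h3) ha
  obtain ⟨s, hsP, hsR⟩ := exists_seq_dep P R _ h0 hstep
  obtain ⟨xh, hxh⟩ := exists_limit IBh
    (fun k => (s k).1) (fun k => Ideal.pow_le_pow_right (Nat.le_succ k) (hsR k).1)
  obtain ⟨yh, hyh⟩ := exists_limit IBh
    (fun k => (s k).2.1) (fun k => Ideal.pow_le_pow_right (Nat.le_succ k) (hsR k).2.1)
  obtain ⟨α, hα⟩ := exists_limit IAh
    (fun k => (s k).2.2) (fun k => Ideal.pow_le_pow_right (Nat.le_succ k) (hsR k).2.2)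
  refine ⟨xh, yh, α, ?_, ?_, ?_, ?_⟩
  · have h1 := hxh 1
    rw [pow_one] at h1
    have : xh - uh = (xh - (s 1).1) + ((s 1).1 - uh) := by ring
    rw [this]; exact add_mem h1 (hsP 1).1
  · have h1 := hyh 1
    rw [pow_one] at h1
    have : yh - vh = (yh - (s 1).2.1) + ((s 1).2.1 - vh) := by ring
    rw [this]; exact add_mem h1 (hsP 1).2.1
  · have h1 := hα 1
    rw [pow_one] at h1
    have : α = (α - (s 1).2.2) + (s 1).2.2 := by ring
    rw [this]; exact add_mem h1 (hsP 1).2.2.1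
  · rw [← sub_eq_zero]
    apply IsHausdorff.haus' (I := IBh)
    intro k
    rw [SModEq.zero, smul_eq_mul, Ideal.mul_top]
    have e1 : Qf ca cb cc xh yh - θ A B α =
        (xh - (s k).1) * (ca * (xh + (s k).1) + cb * yh) +
          (yh - (s k).2.1) * (cb * (s k).1 + cc * (yh + (s k).2.1)) +
        (Qf ca cb cc (s k).1 (s k).2.1 - θ A B (s k).2.2) - θ A B (α - (s k).2.2) := by
      rw [map_sub]
      linear_combination Qf_sub_Qf ca cb cc xh yh (s k).1 (s k).2.1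
    rw [e1]
    refine sub_mem (add_mem (add_mem (Ideal.mul_mem_right _ _ (hxh k))
      (Ideal.mul_mem_right _ _ (hyh k)))
      (Ideal.pow_le_pow_right (Nat.le_succ k) (hsP k).2.2.2)) ?_
    rw [← map_θ_pow]
    exact Ideal.mem_map_of_mem _ (hα k)

end Groth.Agent.H8.NodeQ
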