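import Mathlib
import Groth.Agent.Lib.Helper1.FibreStalk

/-!
# The local ring of a fibre as an algebra over the residue field (helper8)

`toFiberStalk f x ∘ f.stalkMap x` is the composite of the residue map of `O_{Y,f x}` with the
structure map `κ(f x) → O_{X_{f x}, x}` of the fibre.
-/

set_option autoImplicit false
universe u
open CategoryTheory CategoryTheory.Limits AlgebraicGeometry IsLocalRing

namespace Groth.Agent.H8.NodeQ

open Groth.Agent.H1.FibreStalk

variable {X Y : Scheme.{u}}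

theorem germ_app_congr {Z : Scheme.{u}} {g h : Z ⟶ Y} (e : g = h) (z : Z) (U : Y.Opens)
    (hz : z ∈ g ⁻¹ᵁ U) (σ : Γ(Y, U)) :
    Z.presheaf.germ (g ⁻¹ᵁ U) z hz (g.app U σ) =
      Z.presheaf.germ (h ⁻¹ᵁ U) z (e ▸ hz) (h.app U σ) := by
  subst e; rfl

theorem fromSpecResidueField_app (y : Y) (U : Y.Opens) (hy : y ∈ U) :
    (Y.fromSpecResidueField y).app U =
      Y.presheaf.germ U y hy ≫ Y.residue y ≫ (Scheme.ΓSpecIso (Y.residueField y)).inv ≫
        (Spec (Y.residueField y)).presheaf.map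
          (homOfLE (le_top : (Y.fromSpecResidueField y) ⁻¹ᵁ U ≤ ⊤)).op := by
  have h1 : (Y.fromSpecResidueField y).app U =
      (Y.fromSpecStalk y).app U ≫ (Spec.map (Y.residue y)).app ((Y.fromSpecStalk y) ⁻¹ᵁ U) := rfl
  rw [h1, Scheme.fromSpecStalk_app hy, Category.assoc, Category.assoc]
  congr 1
  rw [Scheme.Hom.naturality, ← Category.assoc, ← Category.assoc (Y.residue y),
    Scheme.ΓSpecIso_inv_naturality]
  rfl

theorem fromSpecResidueField_app_apply (y : Y) (U : Y.Opens) (hy : y ∈ U) (σ : Γ(Y, U)) :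
    (Y.fromSpecResidueField y).app U σ =
      (Spec (Y.residueField y)).presheaf.map
          (homOfLE (le_top : (Y.fromSpecResidueField y) ⁻¹ᵁ U ≤ ⊤)).op
        ((Scheme.ΓSpecIso (Y.residueField y)).inv (Y.residue y (Y.presheaf.germ U y hy σ))) := by
  rw [fromSpecResidueField_app y U hy]
  rfl

/-- The `κ(f x)`-algebra structure of the local ring of the fibre at `x` is induced by the
`O_{Y, f x}`-algebra structure of `O_{X,x}`. -/
theorem toFiberStalk_stalkMap (f : X ⟶ Y) (x : X) (r : Y.presheaf.stalk (f x)) :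
    toFiberStalk f x ((f.stalkMap x).hom r) =
      ((f.fiber (f x)).presheaf.germ ⊤ (f.asFiber x) trivial).hom
        ((f.fiberToSpecResidueField (f x)).appTop.hom
          ((Scheme.ΓSpecIso (Y.residueField (f x))).inv.hom ((Y.residue (f x)).hom r))) := by
  obtain ⟨U, hU, σ, rfl⟩ := TopCat.Presheaf.exists_germ_eq Y.presheaf r
  have hz : (f.fiberι (f x)) (f.asFiber x) = x := f.fiberι_asFiber x
  have hxU : x ∈ f ⁻¹ᵁ U := hU
  have hιz : (f.fiberι (f x)) (f.asFiber x) ∈ f ⁻¹ᵁ U := by rw [hz]; exact hU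
  have hzW : f.asFiber x ∈ (f.fiberι (f x) ≫ f) ⁻¹ᵁ U := hιz
  have L1 : (f.stalkMap x) (Y.presheaf.germ U (f x) hU σ) =
      X.presheaf.germ (f ⁻¹ᵁ U) x hxU (f.app U σ) :=
    Scheme.Hom.germ_stalkMap_apply f U x hU σ
  have L2 : (X.presheaf.stalkCongr (Inseparable.of_eq hz.symm)).hom
      (X.presheaf.germ (f ⁻¹ᵁ U) x hxU (f.app U σ)) =
      X.presheaf.germ (f ⁻¹ᵁ U) ((f.fiberι (f x)) (f.asFiber x)) hιz (f.app U σ) := by
    show (X.presheaf.stalkSpecializes (Inseparable.of_eq hz.symm).ge) _ = _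
    rw [← CommRingCat.comp_apply, TopCat.Presheaf.germ_stalkSpecializes]
  have L3 : ((f.fiberι (f x)).stalkMap (f.asFiber x))
      (X.presheaf.germ (f ⁻¹ᵁ U) ((f.fiberι (f x)) (f.asFiber x)) hιz (f.app U σ)) =
      (f.fiber (f x)).presheaf.germ ((f.fiberι (f x)) ⁻¹ᵁ (f ⁻¹ᵁ U)) (f.asFiber x) hιz
        ((f.fiberι (f x)).app (f ⁻¹ᵁ U) (f.app U σ)) :=
    Scheme.Hom.germ_stalkMap_apply (f.fiberι (f x)) (f ⁻¹ᵁ U) (f.asFiber x) hιz _
  have LHS : toFiberStalk f x ((f.stalkMap x).hom (Y.presheaf.germ U (f x) hU σ)) =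
      ((f.fiberι (f x)).stalkMap (f.asFiber x))
        ((X.presheaf.stalkCongr (Inseparable.of_eq hz.symm)).hom
          ((f.stalkMap x) (Y.presheaf.germ U (f x) hU σ))) := rfl
  rw [LHS, L1, L2, L3]
  have M1 : (f.fiber (f x)).presheaf.germ ((f.fiberι (f x)) ⁻¹ᵁ (f ⁻¹ᵁ U)) (f.asFiber x) hιz
        ((f.fiberι (f x)).app (f ⁻¹ᵁ U) (f.app U σ)) =
      (f.fiber (f x)).presheaf.germ ((f.fiberι (f x) ≫ f) ⁻¹ᵁ U) (f.asFiber x) hzW
        ((f.fiberι (f x) ≫ f).app U σ) := rfl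
  rw [M1, germ_app_congr (f.fiber_fac (f x)) (f.asFiber x) U hzW σ]
  have hzW' : f.asFiber x ∈
      (f.fiberToSpecResidueField (f x) ≫ Y.fromSpecResidueField (f x)) ⁻¹ᵁ U :=
    (f.fiber_fac (f x)) ▸ hzW
  have M2 : (f.fiberToSpecResidueField (f x) ≫ Y.fromSpecResidueField (f x)).app U σ =
      (f.fiberToSpecResidueField (f x)).app ((Y.fromSpecResidueField (f x)) ⁻¹ᵁ U)
        ((Y.fromSpecResidueField (f x)).app U σ) := rfl
  rw [M2, fromSpecResidueField_app_apply (f x) U hU σ]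
  have M3 := congrArg (fun φ => φ ((Scheme.ΓSpecIso (Y.residueField (f x))).inv
      (Y.residue (f x) (Y.presheaf.germ U (f x) hU σ))))
    (congrArg CommRingCat.Hom.hom ((f.fiberToSpecResidueField (f x)).naturality
      (homOfLE (le_top : (Y.fromSpecResidueField (f x)) ⁻¹ᵁ U ≤ ⊤)).op))
  simp only [CommRingCat.hom_comp, RingHom.comp_apply] at M3
  erw [M3]
  erw [TopCat.Presheaf.germ_res_apply]
  rfl

end Groth.Agent.H8.NodeQ
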