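import Mathlib
import Groth.Agent.Lib.Helper8.NodeQ.Approx
import Groth.Agent.Lib.Helper8.NodeCpl.Surj

/-!
# Surjection from `Â[[u,v]]/(Q - α)` onto `B̂` (helper8)
-/

set_option autoImplicit false
universe u

namespace Groth.Agent.H8.NodeQ

open IsLocalRing MvPowerSeries
open Groth.Agent.H8.NodeCpl

variable {A B : Type u} [CommRing A] [IsLocalRing A] [IsNoetherianRing A]
  [CommRing B] [IsLocalRing B] [IsNoetherianRing B] [Algebra A B] [IsLocalHom (algebraMap A B)]

local notation "Bh" => AdicCompletion (IsLocalRing.maximalIdeal B) B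
local notation "Ah" => AdicCompletion (IsLocalRing.maximalIdeal A) A
local notation "IBh" => Ideal.map (algebraMap A (AdicCompletion (IsLocalRing.maximalIdeal B) B))
  (IsLocalRing.maximalIdeal A)
local notation "IAh" => Ideal.map (algebraMap A (AdicCompletion (IsLocalRing.maximalIdeal A) A))
  (IsLocalRing.maximalIdeal A)
local notation "NBh" => Ideal.map (algebraMap B (AdicCompletion (IsLocalRing.maximalIdeal B) B))
  (IsLocalRing.maximalIdeal B)

/-- The evaluation `Â[[X₀,X₁]] → B̂` at `x, y`, which is surjective. -/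
theorem exists_Psi
    (hres : ∀ b : Bh, ∃ e : A, b - algebraMap A Bh e ∈ NBh)
    (uh vh : Bh) (hgen : NBh = Ideal.span {uh, vh} ⊔ IBh)
    (x y : Bh) (hx : x - uh ∈ IBh) (hy : y - vh ∈ IBh) :
    ∃ Ψ : MvPowerSeries (Fin 2) Ah →+* Bh, Function.Surjective Ψ ∧ Ψ (X 0) = x ∧ Ψ (X 1) = y ∧
      ∀ a : Ah, Ψ (C a) = θ A B a := by
  classical
  haveI hcB := AdicCompletion.isAdicComplete_self (maximalIdeal B)
    (IsNoetherian.noetherian (maximalIdeal B))
  haveI hcA := AdicCompletion.isAdicComplete_self (maximalIdeal A)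
    (IsNoetherian.noetherian (maximalIdeal A))
  letI : Algebra Ah Bh := (θ A B).toAlgebra
  have huN : uh ∈ NBh := by
    rw [hgen]; exact Ideal.mem_sup_left (Ideal.subset_span (by simp))
  have hvN : vh ∈ NBh := by
    rw [hgen]; exact Ideal.mem_sup_left (Ideal.subset_span (by simp))
  have hxN : x ∈ NBh := by
    have : x = (x - uh) + uh := by ring
    rw [this]
    exact add_mem (IB_le A B hx) huN
  have hyN : y ∈ NBh := by
    have : y = (y - vh) + vh := by ring
    rw [this]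
    exact add_mem (IB_le A B hy) hvN
  obtain ⟨Ψ, hΨX⟩ := Groth.Agent.H5.CA.exists_algHom_mvPowerSeries' (σ := Fin 2)
    Ah Bh NBh (fun i => if i = 0 then x else y) (fun i => by
      by_cases hi : i = 0
      · simp only [hi, if_true]; exact hxN
      · simp only [hi, if_false]; exact hyN)
  have hΨ0 : Ψ (X 0) = x := by rw [hΨX]; simp
  have hΨ1 : Ψ (X 1) = y := by rw [hΨX]; simp
  have hΨC : ∀ a : Ah, Ψ (C a) = θ A B a := fun a => by
    rw [Groth.Agent.H8.RegSecPS.algHom_C]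
    rfl
  have hI : (Groth.Agent.H5.FSm.psIdeal IAh 2).map Ψ.toRingHom = NBh := by
    apply le_antisymm
    · rw [Ideal.map_le_iff_le_comap, Groth.Agent.H5.FSm.psIdeal, sup_le_iff]
      constructor
      · rw [Ideal.map_le_iff_le_comap]
        intro a ha
        rw [Ideal.mem_comap, Ideal.mem_comap]
        show Ψ (C a) ∈ _
        rw [hΨC]
        apply IB_le A B
        rw [← map_θ]
        exact Ideal.mem_map_of_mem _ ha
      · rw [Ideal.span_le]
        rintro _ ⟨i, rfl⟩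
        rw [SetLike.mem_coe, Ideal.mem_comap]
        show Ψ (X i) ∈ _
        rw [hΨX]
        by_cases hi : i = 0
        · simp only [hi, if_true]; exact hxN
        · simp only [hi, if_false]; exact hyN
    · have hIle : IBh ≤ (Groth.Agent.H5.FSm.psIdeal IAh 2).map Ψ.toRingHom := by
        rw [← map_θ, Ideal.map_le_iff_le_comap]
        intro a ha
        rw [Ideal.mem_comap, ← hΨC]
        exact Ideal.mem_map_of_mem Ψ.toRingHom
          (Ideal.mem_sup_left (Ideal.mem_map_of_mem _ ha))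
      have hX : ∀ i : Fin 2, Ψ (X i) ∈ (Groth.Agent.H5.FSm.psIdeal IAh 2).map Ψ.toRingHom :=
        fun i => Ideal.mem_map_of_mem Ψ.toRingHom
          (Ideal.mem_sup_right (Ideal.subset_span ⟨i, rfl⟩))
      rw [hgen, sup_le_iff]
      refine ⟨?_, hIle⟩
      rw [Ideal.span_le]
      intro z hz
      rcases hz with h | h
      · have e : z = x - (x - uh) := by rw [h]; ring
        rw [SetLike.mem_coe, e]
        exact sub_mem (hΨ0 ▸ hX 0) (hIle hx)
      · have h' : z = vh := h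
        have e : z = y - (y - vh) := by rw [h']; ring
        rw [SetLike.mem_coe, e]
        exact sub_mem (hΨ1 ▸ hX 1) (hIle hy)
  have hΨsurj : Function.Surjective Ψ := by
    haveI : IsHausdorff ((Groth.Agent.H5.FSm.psIdeal IAh 2).map Ψ.toRingHom) Bh := by
      rw [hI]
      infer_instance
    refine surjective_of_mk_map_comp_surjective
      (I := Groth.Agent.H5.FSm.psIdeal IAh 2) Ψ.toRingHom ?_
    intro z
    obtain ⟨z', rfl⟩ := Ideal.Quotient.mk_surjective z
    obtain ⟨e, he⟩ := hres z'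
    refine ⟨C (algebraMap A Ah e), ?_⟩
    show Ideal.Quotient.mk _ (Ψ (C (algebraMap A Ah e))) = Ideal.Quotient.mk _ z'
    rw [Ideal.Quotient.eq, hI, hΨC, θ_of, ← neg_sub]
    exact neg_mem he
  exact ⟨Ψ.toRingHom, hΨsurj, hΨ0, hΨ1, hΨC⟩

/-- Given `Q(x, y) = θ α` as produced by `exists_xy`, the induced surjection. -/
theorem exists_surj (a b c α : Ah)
    (hres : ∀ b : Bh, ∃ e : A, b - algebraMap A Bh e ∈ NBh)
    (uh vh : Bh) (hgen : NBh = Ideal.span {uh, vh} ⊔ IBh)
    (x y : Bh) (hx : x - uh ∈ IBh) (hy : y - vh ∈ IBh)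
    (hxy : Qf (θ A B a) (θ A B b) (θ A B c) x y = θ A B α) :
    ∃ ψ : (MvPowerSeries (Fin 2) Ah ⧸ Ideal.span
          {(C a * X 0 ^ 2 + C b * X 0 * X 1 + C c * X 1 ^ 2 - C α : MvPowerSeries (Fin 2) Ah)})
          →ₐ[A] Bh,
      Function.Surjective ψ ∧ ψ (Ideal.Quotient.mk _ (X 0)) = x ∧
        ψ (Ideal.Quotient.mk _ (X 1)) = y := by
  classical
  obtain ⟨Ψ, hΨs, hΨ0, hΨ1, hΨC⟩ := exists_Psi hres uh vh hgen x y hx hy
  have hker : Ψ (C a * X 0 ^ 2 + C b * X 0 * X 1 + C c * X 1 ^ 2 - C α) = 0 := by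
    have h2 := hxy
    unfold Qf at h2
    simp only [map_sub, map_add, map_mul, map_pow, hΨ0, hΨ1, hΨC]
    linear_combination h2
  let ψ0 : (MvPowerSeries (Fin 2) Ah ⧸ Ideal.span
      {(C a * X 0 ^ 2 + C b * X 0 * X 1 + C c * X 1 ^ 2 - C α : MvPowerSeries (Fin 2) Ah)}) →+*
      Bh :=
    Ideal.Quotient.lift _ Ψ (fun z hz => by
      rw [Ideal.mem_span_singleton] at hz
      obtain ⟨w, rfl⟩ := hz
      rw [map_mul, hker, zero_mul])
  have hψ0 : ∀ p, ψ0 (Ideal.Quotient.mk _ p) = Ψ p := fun p => rfl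
  let ψ : (MvPowerSeries (Fin 2) Ah ⧸ Ideal.span
      {(C a * X 0 ^ 2 + C b * X 0 * X 1 + C c * X 1 ^ 2 - C α : MvPowerSeries (Fin 2) Ah)}) →ₐ[A]
      Bh :=
    { ψ0 with
      commutes' := fun r => by
        show ψ0 (Ideal.Quotient.mk _ (algebraMap A (MvPowerSeries (Fin 2) Ah) r)) = _
        rw [hψ0, MvPowerSeries.algebraMap_apply, hΨC, θ_of] }
  have hψ : ∀ p, ψ (Ideal.Quotient.mk _ p) = Ψ p := fun p => rfl
  refine ⟨ψ, ?_, ?_, ?_⟩
  · intro z
    obtain ⟨p, rfl⟩ := hΨs z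
    exact ⟨Ideal.Quotient.mk _ p, hψ p⟩
  · rw [hψ, hΨ0]
  · rw [hψ, hΨ1]

end Groth.Agent.H8.NodeQ
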