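import Mathlib
import Groth.Agent.Lib.Helper8.NodeQ.Surj
import Groth.Agent.Lib.Helper8.NodeCpl.Iso
import Groth.Agent.Lib.Helper1.ComplQuot
import Groth.Agent.Lib.Helper5.CA.PSCont
import Groth.Agent.S0543

/-!
# `B̂ ≅ Â[[u,v]]/(Q - h)` for a flat family whose closed fibre is a (possibly non-split) node
(helper8)

`A → B` flat local homomorphism of Noetherian local rings, `B → F` surjective with kernel `𝔪_A B`
(`F` the local ring of the closed fibre), and the completion of `F` isomorphic, compatibly with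
the residue field `k` of `A`, to `k[[u,v]]/(q)` for a binary quadratic form `q` with non-zero
discriminant.  Then `B̂ ≅ Â[[u,v]]/(Q - h)` over `A`, for any lift `Q` of `q` to `A` and some
`h ∈ 𝔪_Â`.
-/

set_option autoImplicit false
universe u

namespace Groth.Agent.H8.NodeQ

open IsLocalRing MvPowerSeries
open Groth.Agent.H8.NodeCpl

variable {A B : Type u} [CommRing A] [IsLocalRing A] [IsNoetherianRing A]
  [CommRing B] [IsLocalRing B] [IsNoetherianRing B] [Algebra A B] [IsLocalHom (algebraMap A B)]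

local notation "Bh" => AdicCompletion (IsLocalRing.maximalIdeal B) B
local notation "Ah" => AdicCompletion (IsLocalRing.maximalIdeal A) A
local notation "IBh" => Ideal.map (algebraMap A (AdicCompletion (IsLocalRing.maximalIdeal B) B))
  (IsLocalRing.maximalIdeal A)
local notation "IAh" => Ideal.map (algebraMap A (AdicCompletion (IsLocalRing.maximalIdeal A) A))
  (IsLocalRing.maximalIdeal A)
local notation "NBh" => Ideal.map (algebraMap B (AdicCompletion (IsLocalRing.maximalIdeal B) B))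
  (IsLocalRing.maximalIdeal B)

theorem map_le_jacobson (J : Ideal (MvPowerSeries (Fin 2) Ah)) :
    (maximalIdeal A).map (algebraMap A (MvPowerSeries (Fin 2) Ah ⧸ J)) ≤ Ideal.jacobson ⊥ := by
  intro z hz
  rw [Ideal.mem_jacobson_bot]
  intro w
  have h1 : algebraMap A (MvPowerSeries (Fin 2) Ah ⧸ J) =
      (Ideal.Quotient.mk J).comp (algebraMap A (MvPowerSeries (Fin 2) Ah)) := rfl
  rw [h1, ← Ideal.map_map] at hz
  obtain ⟨z', hz', rfl⟩ := (Ideal.mem_map_iff_of_surjective _ Ideal.Quotient.mk_surjective).mp hz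
  obtain ⟨w', rfl⟩ := Ideal.Quotient.mk_surjective w
  have hu : IsUnit (z' * w' + 1) := by
    rw [MvPowerSeries.isUnit_iff_constantCoeff, map_add, map_mul, map_one]
    have hc : constantCoeff z' ∈ maximalIdeal Ah := by
      rw [AdicCompletion.maximalIdeal_eq_map]
      have h2 := Ideal.mem_map_of_mem (constantCoeff : MvPowerSeries (Fin 2) Ah →+* _) hz'
      rw [Ideal.map_map] at h2
      have h3 : (constantCoeff : MvPowerSeries (Fin 2) Ah →+* _).comp
          (algebraMap A (MvPowerSeries (Fin 2) Ah)) = algebraMap A Ah := by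
        ext a
        simp [MvPowerSeries.algebraMap_apply]
      rw [h3] at h2
      exact h2
    have hj : maximalIdeal Ah ≤ Ideal.jacobson ⊥ := by
      rw [IsLocalRing.jacobson_eq_maximalIdeal ⊥ bot_ne_top]
    exact Ideal.mem_jacobson_bot.mp (hj hc) _
  have h4 := hu.map (Ideal.Quotient.mk J)
  rwa [map_add, map_mul, map_one] at h4

theorem ker_le_map (a b c α : Ah) (hα : α ∈ IAh) (a₀ b₀ c₀ : ResidueField A)
    (ha : rmap A a = a₀) (hb : rmap A b = b₀) (hc : rmap A c = c₀)
    (ψ : (MvPowerSeries (Fin 2) Ah ⧸ Ideal.span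
      {(C a * X 0 ^ 2 + C b * X 0 * X 1 + C c * X 1 ^ 2 - C α : MvPowerSeries (Fin 2) Ah)}) →ₐ[A]
      Bh)
    (hs : Function.Surjective ψ)
    (χ0 : Bh →+* (MvPowerSeries (Fin 2) (ResidueField A) ⧸ Ideal.span
      {(C a₀ * X 0 ^ 2 + C b₀ * X 0 * X 1 + C c₀ * X 1 ^ 2 :
        MvPowerSeries (Fin 2) (ResidueField A))}))
    (hχ0s : Function.Surjective χ0)
    (hχ0m : ∀ r ∈ maximalIdeal A, χ0 (algebraMap A Bh r) = 0)
    {s : ℕ} (gen : Fin s → A) (hgen : Ideal.span (Set.range gen) = maximalIdeal A) :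
    RingHom.ker ψ.toRingHom ≤ (maximalIdeal A).map (algebraMap A
      (MvPowerSeries (Fin 2) Ah ⧸ Ideal.span
        {(C a * X 0 ^ 2 + C b * X 0 * X 1 + C c * X 1 ^ 2 - C α :
          MvPowerSeries (Fin 2) Ah)})) := by
  classical
  have hrα : rmap A α = 0 := by
    rw [← RingHom.mem_ker, ker_rmap]
    exact hα
  have hmapF : MvPowerSeries.map (rmap A)
      (C a * X 0 ^ 2 + C b * X 0 * X 1 + C c * X 1 ^ 2 - C α : MvPowerSeries (Fin 2) Ah) =
      C a₀ * X 0 ^ 2 + C b₀ * X 0 * X 1 + C c₀ * X 1 ^ 2 := by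
    simp only [map_sub, map_add, map_mul, map_pow, MvPowerSeries.map_X, MvPowerSeries.map_C,
      ha, hb, hc, hrα, map_zero, sub_zero]
  let π0 : MvPowerSeries (Fin 2) Ah →+*
      (MvPowerSeries (Fin 2) (ResidueField A) ⧸ Ideal.span
        {(C a₀ * X 0 ^ 2 + C b₀ * X 0 * X 1 + C c₀ * X 1 ^ 2 :
          MvPowerSeries (Fin 2) (ResidueField A))}) :=
    (Ideal.Quotient.mk _).comp (MvPowerSeries.map (rmap A))
  have hπ0 : π0 (C a * X 0 ^ 2 + C b * X 0 * X 1 + C c * X 1 ^ 2 - C α) = 0 := by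
    show Ideal.Quotient.mk _ (MvPowerSeries.map (rmap A)
      (C a * X 0 ^ 2 + C b * X 0 * X 1 + C c * X 1 ^ 2 - C α)) = 0
    rw [hmapF]
    exact Ideal.Quotient.eq_zero_iff_mem.mpr (Ideal.subset_span rfl)
  let π : (MvPowerSeries (Fin 2) Ah ⧸ Ideal.span
      {(C a * X 0 ^ 2 + C b * X 0 * X 1 + C c * X 1 ^ 2 - C α : MvPowerSeries (Fin 2) Ah)}) →+*
      (MvPowerSeries (Fin 2) (ResidueField A) ⧸ Ideal.span
        {(C a₀ * X 0 ^ 2 + C b₀ * X 0 * X 1 + C c₀ * X 1 ^ 2 :
          MvPowerSeries (Fin 2) (ResidueField A))}) :=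
    Ideal.Quotient.lift _ π0 (fun z hz => by
      rw [Ideal.mem_span_singleton] at hz
      obtain ⟨w, rfl⟩ := hz
      rw [map_mul, hπ0, zero_mul])
  have hπmk : ∀ p, π (Ideal.Quotient.mk _ p) =
      Ideal.Quotient.mk _ (MvPowerSeries.map (rmap A) p) := fun p => rfl
  have hπsurj : Function.Surjective π := by
    intro z
    obtain ⟨q, rfl⟩ := Ideal.Quotient.mk_surjective z
    obtain ⟨p, rfl⟩ := mvPowerSeries_map_surjective (σ := Fin 2) (rmap A) rmap_surjective q
    exact ⟨Ideal.Quotient.mk _ p, hπmk p⟩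
  have hkerπ : RingHom.ker π ≤ (maximalIdeal A).map (algebraMap A
      (MvPowerSeries (Fin 2) Ah ⧸ Ideal.span
        {(C a * X 0 ^ 2 + C b * X 0 * X 1 + C c * X 1 ^ 2 - C α :
          MvPowerSeries (Fin 2) Ah)})) := by
    intro z hz
    obtain ⟨p, rfl⟩ := Ideal.Quotient.mk_surjective z
    rw [RingHom.mem_ker, hπmk, Ideal.Quotient.eq_zero_iff_mem, Ideal.mem_span_singleton'] at hz
    obtain ⟨g, hg⟩ := hz
    obtain ⟨g', rfl⟩ := mvPowerSeries_map_surjective (σ := Fin 2) (rmap A) rmap_surjective g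
    have hspan : Ideal.span (Set.range (algebraMap A Ah ∘ gen)) = RingHom.ker (rmap A) := by
      rw [ker_rmap, ← hgen, Ideal.map_span, Set.range_comp]
    have hp' : ∀ d, coeff d
        (p - g' * (C a * X 0 ^ 2 + C b * X 0 * X 1 + C c * X 1 ^ 2 - C α)) ∈
        Ideal.span (Set.range (algebraMap A Ah ∘ gen)) := by
      intro d
      have hm : MvPowerSeries.map (rmap A)
          (p - g' * (C a * X 0 ^ 2 + C b * X 0 * X 1 + C c * X 1 ^ 2 - C α)) = 0 := by
        rw [RingHom.map_sub, RingHom.map_mul, hmapF, hg, sub_self]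
      rw [hspan, RingHom.mem_ker, ← coeff_map, hm, map_zero]
    obtain ⟨k, hk⟩ := Groth.Agent.H8.RegSecPS.exists_sum_C_mul (algebraMap A Ah ∘ gen) _ hp'
    have hz2 : Ideal.Quotient.mk (Ideal.span
        {(C a * X 0 ^ 2 + C b * X 0 * X 1 + C c * X 1 ^ 2 - C α : MvPowerSeries (Fin 2) Ah)}) p =
        Ideal.Quotient.mk _
          (p - g' * (C a * X 0 ^ 2 + C b * X 0 * X 1 + C c * X 1 ^ 2 - C α)) := by
      rw [Ideal.Quotient.eq]
      have e1 : p - (p - g' * (C a * X 0 ^ 2 + C b * X 0 * X 1 + C c * X 1 ^ 2 - C α)) =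
          g' * (C a * X 0 ^ 2 + C b * X 0 * X 1 + C c * X 1 ^ 2 - C α) := by ring
      rw [e1]
      exact Ideal.mul_mem_left _ _ (Ideal.subset_span rfl)
    rw [hz2, hk, map_sum]
    refine Ideal.sum_mem _ (fun j _ => ?_)
    rw [map_mul]
    refine Ideal.mul_mem_right _ _ ?_
    have e2 : Ideal.Quotient.mk (Ideal.span
        {(C a * X 0 ^ 2 + C b * X 0 * X 1 + C c * X 1 ^ 2 - C α : MvPowerSeries (Fin 2) Ah)})
        (C ((algebraMap A Ah ∘ gen) j)) = algebraMap A _ (gen j) := by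
      show _ = Ideal.Quotient.mk _ (algebraMap A (MvPowerSeries (Fin 2) Ah) (gen j))
      rw [MvPowerSeries.algebraMap_apply]
      rfl
    rw [e2]
    refine Ideal.mem_map_of_mem _ ?_
    rw [← hgen]
    exact Ideal.subset_span ⟨j, rfl⟩
  -- the composite to the nodal fibre
  let χ : (MvPowerSeries (Fin 2) Ah ⧸ Ideal.span
      {(C a * X 0 ^ 2 + C b * X 0 * X 1 + C c * X 1 ^ 2 - C α : MvPowerSeries (Fin 2) Ah)}) →+*
      (MvPowerSeries (Fin 2) (ResidueField A) ⧸ Ideal.span
        {(C a₀ * X 0 ^ 2 + C b₀ * X 0 * X 1 + C c₀ * X 1 ^ 2 :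
          MvPowerSeries (Fin 2) (ResidueField A))}) :=
    χ0.comp ψ.toRingHom
  have hχ : ∀ z, χ z = χ0 (ψ z) := fun z => rfl
  have hχsurj : Function.Surjective χ := by
    intro z
    obtain ⟨y2, hy2⟩ := hχ0s z
    obtain ⟨y3, hy3⟩ := hs y2
    exact ⟨y3, by rw [hχ, hy3, hy2]⟩
  have hmχ : (maximalIdeal A).map (algebraMap A
      (MvPowerSeries (Fin 2) Ah ⧸ Ideal.span
        {(C a * X 0 ^ 2 + C b * X 0 * X 1 + C c * X 1 ^ 2 - C α :
          MvPowerSeries (Fin 2) Ah)})) ≤ RingHom.ker χ := by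
    rw [Ideal.map_le_iff_le_comap]
    intro r hr
    rw [Ideal.mem_comap, RingHom.mem_ker, hχ, AlgHom.commutes, hχ0m r hr]
  let χbar := RingHom.liftOfSurjective π hπsurj ⟨χ, hkerπ.trans hmχ⟩
  have hχbar : ∀ z, χbar (π z) = χ z := fun z =>
    RingHom.liftOfSurjective_comp_apply π hπsurj ⟨χ, hkerπ.trans hmχ⟩ z
  have hχbarsurj : Function.Surjective χbar := by
    intro z
    obtain ⟨q, rfl⟩ := hχsurj z
    exact ⟨π q, hχbar q⟩
  have hχbarinj := injective_of_surjective_endo χbar hχbarsurj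
  intro z hz
  apply hkerπ
  rw [RingHom.mem_ker]
  apply hχbarinj
  rw [hχbar, hχ, map_zero]
  have hz0 : ψ z = 0 := hz
  rw [hz0, map_zero]

/-- The completed local structure of a flat family at a (possibly non-split) rational node. -/
theorem main [Module.Flat A B] (F : Type u) [CommRing F] [IsLocalRing F]
    (πF : B →+* F) (hπ : Function.Surjective πF)
    (hkerπ : RingHom.ker πF = (maximalIdeal A).map (algebraMap A B))
    (a₁ b₁ c₁ : A) (hdisc : IsUnit (b₁ ^ 2 - 4 * a₁ * c₁))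
    (e : AdicCompletion (maximalIdeal F) F ≃+*
      (MvPowerSeries (Fin 2) (ResidueField A) ⧸ Ideal.span
        {(C (residue A a₁) * X 0 ^ 2 + C (residue A b₁) * X 0 * X 1 +
          C (residue A c₁) * X 1 ^ 2 : MvPowerSeries (Fin 2) (ResidueField A))}))
    (he : ∀ r : A, e (algebraMap F (AdicCompletion (maximalIdeal F) F) (πF (algebraMap A B r))) =
      Ideal.Quotient.mk _ (C (residue A r))) :
    ∃ h ∈ maximalIdeal (AdicCompletion (maximalIdeal A) A),
      ∃ ψ : AdicCompletion (maximalIdeal B) B ≃+*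
          (MvPowerSeries (Fin 2) (AdicCompletion (maximalIdeal A) A) ⧸ Ideal.span
            {(C (algebraMap A (AdicCompletion (maximalIdeal A) A) a₁) * X 0 ^ 2 +
              C (algebraMap A (AdicCompletion (maximalIdeal A) A) b₁) * X 0 * X 1 +
              C (algebraMap A (AdicCompletion (maximalIdeal A) A) c₁) * X 1 ^ 2 - C h :
              MvPowerSeries (Fin 2) (AdicCompletion (maximalIdeal A) A))}),
        ∀ r : A, ψ (algebraMap B (AdicCompletion (maximalIdeal B) B) (algebraMap A B r)) =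
          Ideal.Quotient.mk _ (C (algebraMap A (AdicCompletion (maximalIdeal A) A) r)) := by
  classical
  have hF : maximalIdeal F = (maximalIdeal B).map πF :=
    (IsLocalRing.map_maximalIdeal_of_surjective πF hπ).symm
  -- the map to the completion of the fibre
  let ρ' : Bh →+* AdicCompletion (maximalIdeal F) F :=
    Groth.Agent.H1.ComplQuot.compMap πF (maximalIdeal B) (maximalIdeal F) hF
  have hρ's : Function.Surjective ρ' :=
    Groth.Agent.H1.ComplQuot.compMap_surjective πF _ _ hπ hF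
  have hρ'k : RingHom.ker ρ' = IBh := by
    rw [Groth.Agent.H1.ComplQuot.ker_compMap πF _ _ hπ hF, hkerπ, Ideal.map_map]
    rfl
  have hρ'of : ∀ b : B, ρ' (algebraMap B Bh b) =
      algebraMap F (AdicCompletion (maximalIdeal F) F) (πF b) :=
    fun b => Groth.Agent.H1.ComplQuot.compMap_of πF _ _ hF b
  let χ0 : Bh →+* (MvPowerSeries (Fin 2) (ResidueField A) ⧸ Ideal.span
        {(C (residue A a₁) * X 0 ^ 2 + C (residue A b₁) * X 0 * X 1 +
          C (residue A c₁) * X 1 ^ 2 : MvPowerSeries (Fin 2) (ResidueField A))}) :=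
    e.toRingHom.comp ρ'
  have hχ0 : ∀ z, χ0 z = e (ρ' z) := fun z => rfl
  have hχ0s : Function.Surjective χ0 := by
    intro z
    obtain ⟨y1, hy1⟩ := e.surjective z
    obtain ⟨y2, hy2⟩ := hρ's y1
    exact ⟨y2, by rw [hχ0, hy2, hy1]⟩
  have hχ0k : ∀ z, χ0 z = 0 ↔ z ∈ IBh := by
    intro z
    rw [hχ0, map_eq_zero_iff e e.injective, ← hρ'k, RingHom.mem_ker]
  have hχ0A : ∀ r : A, χ0 (algebraMap A Bh r) = Ideal.Quotient.mk _ (C (residue A r)) := by
    intro r
    have h1 : algebraMap A Bh r = algebraMap B Bh (algebraMap A B r) := rfl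
    rw [hχ0, h1, hρ'of, he]
  -- the augmentation of the nodal ring
  let ε : (MvPowerSeries (Fin 2) (ResidueField A) ⧸ Ideal.span
        {(C (residue A a₁) * X 0 ^ 2 + C (residue A b₁) * X 0 * X 1 +
          C (residue A c₁) * X 1 ^ 2 : MvPowerSeries (Fin 2) (ResidueField A))}) →+*
      ResidueField A :=
    Ideal.Quotient.lift _ (constantCoeff : MvPowerSeries (Fin 2) (ResidueField A) →+* _)
      (fun z hz => by
        rw [Ideal.mem_span_singleton] at hz
        obtain ⟨w, rfl⟩ := hz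
        rw [map_mul]
        have h0 : constantCoeff (C (residue A a₁) * X 0 ^ 2 + C (residue A b₁) * X 0 * X 1 +
            C (residue A c₁) * X 1 ^ 2 : MvPowerSeries (Fin 2) (ResidueField A)) = 0 := by
          simp
        rw [h0, zero_mul])
  have hε : ∀ p, ε (Ideal.Quotient.mk _ p) = constantCoeff p := fun p => rfl
  let η : Bh →+* ResidueField A := ε.comp χ0
  have hη : ∀ z, η z = ε (χ0 z) := fun z => rfl
  have hηA : ∀ r : A, η (algebraMap A Bh r) = residue A r := by
    intro r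
    rw [hη, hχ0A, hε, constantCoeff_C]
  have hηs : Function.Surjective η := by
    intro c
    obtain ⟨r, rfl⟩ := residue_surjective c
    exact ⟨_, hηA r⟩
  have hkη : RingHom.ker η = NBh := by
    have hmax : (RingHom.ker η).IsMaximal := RingHom.ker_isMaximal_of_surjective η hηs
    rw [← AdicCompletion.maximalIdeal_eq_map]
    exact IsLocalRing.eq_maximalIdeal hmax
  have hres : ∀ b : Bh, ∃ r : A, b - algebraMap A Bh r ∈ NBh := by
    intro b
    obtain ⟨r, hr⟩ := residue_surjective (η b)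
    refine ⟨r, ?_⟩
    rw [← hkη, RingHom.mem_ker, map_sub, hηA, hr, sub_self]
  obtain ⟨uh, huh⟩ := hχ0s (Ideal.Quotient.mk _ (X 0))
  obtain ⟨vh, hvh⟩ := hχ0s (Ideal.Quotient.mk _ (X 1))
  have hgen : NBh = Ideal.span {uh, vh} ⊔ IBh := by
    apply le_antisymm
    · intro z hz
      rw [← hkη, RingHom.mem_ker, hη] at hz
      obtain ⟨p, hp⟩ := Ideal.Quotient.mk_surjective (χ0 z)
      have hp0 : constantCoeff p = 0 := by
        rw [← hp, hε] at hz
        exact hz
      have hpX : p ∈ Ideal.span (Set.range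
          (X : Fin 2 → MvPowerSeries (Fin 2) (ResidueField A))) := by
        rw [← Groth.Agent.H5.CA.ker_constantCoeff_eq_span 2]
        exact hp0
      obtain ⟨cf, hcf⟩ := Ideal.mem_span_range_iff_exists_fun.mp hpX
      rw [Fin.sum_univ_two] at hcf
      obtain ⟨P0, hP0⟩ := hχ0s (Ideal.Quotient.mk _ (cf 0))
      obtain ⟨P1, hP1⟩ := hχ0s (Ideal.Quotient.mk _ (cf 1))
      have hz2 : z - (P0 * uh + P1 * vh) ∈ IBh := by
        rw [← hχ0k, map_sub, map_add, map_mul, map_mul, hP0, hP1, huh, hvh, ← hp, ← hcf,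
          sub_eq_zero]
        simp only [map_add, map_mul]
      have e1 : z = (P0 * uh + P1 * vh) + (z - (P0 * uh + P1 * vh)) := by ring
      rw [e1]
      exact Submodule.add_mem_sup (Ideal.mem_span_pair.mpr ⟨P0, P1, rfl⟩) hz2
    · rw [sup_le_iff]
      refine ⟨?_, IB_le A B⟩
      rw [Ideal.span_le]
      intro z hz
      rw [SetLike.mem_coe, ← hkη, RingHom.mem_ker, hη]
      rcases hz with h | h
      · rw [h, huh, hε, constantCoeff_X]
      · have h' : z = vh := h
        rw [h', hvh, hε, constantCoeff_X]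
  -- the coefficients
  obtain ⟨dA, hdA⟩ := hdisc.exists_left_inv
  have hdl : algebraMap A Bh dA * ((algebraMap A Bh b₁) ^ 2 -
      4 * algebraMap A Bh a₁ * algebraMap A Bh c₁) = 1 := by
    have h1 := congrArg (algebraMap A Bh) hdA
    simpa [map_mul, map_sub, map_pow, map_ofNat] using h1
  have hq0 : (Ideal.Quotient.mk (Ideal.span
        {(C (residue A a₁) * X 0 ^ 2 + C (residue A b₁) * X 0 * X 1 +
          C (residue A c₁) * X 1 ^ 2 : MvPowerSeries (Fin 2) (ResidueField A))}))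
      (C (residue A a₁) * X 0 ^ 2 + C (residue A b₁) * X 0 * X 1 +
          C (residue A c₁) * X 1 ^ 2) = 0 :=
    Ideal.Quotient.eq_zero_iff_mem.mpr (Ideal.subset_span rfl)
  simp only [map_add, map_mul, map_pow] at hq0
  have huv : Qf (algebraMap A Bh a₁) (algebraMap A Bh b₁) (algebraMap A Bh c₁) uh vh ∈ IBh := by
    rw [← hχ0k]
    unfold Qf
    simp only [map_add, map_mul, map_pow, hχ0A, huh, hvh]
    exact hq0
  obtain ⟨x, y, α, hx, hy, hα, hxy⟩ := exists_xy (A := A) (B := B)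
    (algebraMap A Bh a₁) (algebraMap A Bh b₁) (algebraMap A Bh c₁) (algebraMap A Bh dA) hdl
    NBh hres uh vh hgen huv
  have hxy' : Qf (θ A B (algebraMap A Ah a₁)) (θ A B (algebraMap A Ah b₁))
      (θ A B (algebraMap A Ah c₁)) x y = θ A B α := by
    rw [θ_of, θ_of, θ_of]
    exact hxy
  obtain ⟨ψ, hs, -, -⟩ := exists_surj (algebraMap A Ah a₁) (algebraMap A Ah b₁)
    (algebraMap A Ah c₁) α hres uh vh hgen x y hx hy hxy'
  haveI : IsScalarTower A B Bh := IsScalarTower.of_algebraMap_eq (fun _ => rfl)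
  haveI : Module.Flat A Bh := Module.Flat.trans A B Bh
  haveI : IsNoetherianRing Ah := Groth.Agent.S0543.result A (maximalIdeal A)
  obtain ⟨s, gen, hgen1⟩ := Submodule.fg_iff_exists_fin_generating_family.mp
    (IsNoetherian.noetherian (maximalIdeal A))
  have hgen2 : Ideal.span (Set.range gen) = maximalIdeal A := hgen1
  have hχ0m : ∀ r ∈ maximalIdeal A, χ0 (algebraMap A Bh r) = 0 := by
    intro r hr
    rw [hχ0A, (residue_eq_zero_iff r).mpr hr, map_zero, map_zero]
  have hK := ker_le_map (algebraMap A Ah a₁) (algebraMap A Ah b₁) (algebraMap A Ah c₁) α hα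
    (residue A a₁) (residue A b₁) (residue A c₁)
    ((AdicCompletion.evalOneₐ (maximalIdeal A)).commutes a₁)
    ((AdicCompletion.evalOneₐ (maximalIdeal A)).commutes b₁)
    ((AdicCompletion.evalOneₐ (maximalIdeal A)).commutes c₁) ψ hs χ0 hχ0s hχ0m gen hgen2
  have hJ := map_le_jacobson (A := A) (Ideal.span
    {(C (algebraMap A Ah a₁) * X 0 ^ 2 + C (algebraMap A Ah b₁) * X 0 * X 1 +
      C (algebraMap A Ah c₁) * X 1 ^ 2 - C α : MvPowerSeries (Fin 2) Ah)})
  have hK0 : RingHom.ker ψ.toRingHom = ⊥ := by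
    refine Submodule.eq_bot_of_le_smul_of_le_jacobson_bot _ _ (IsNoetherian.noetherian _) ?_ hJ
    intro z hz
    have h2 := ker_inf_le_mul ψ hs gen ⟨hz, by rw [hgen2]; exact hK hz⟩
    rw [hgen2] at h2
    exact h2
  have hinj : Function.Injective ψ := (RingHom.injective_iff_ker_eq_bot ψ.toRingHom).mpr hK0
  refine ⟨α, ?_, (AlgEquiv.ofBijective ψ ⟨hinj, hs⟩).symm.toRingEquiv, ?_⟩
  · rw [AdicCompletion.maximalIdeal_eq_map]
    exact hα
  · intro r
    show (AlgEquiv.ofBijective ψ ⟨hinj, hs⟩).symm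
      (algebraMap B Bh (algebraMap A B r)) = _
    have h1 : algebraMap B Bh (algebraMap A B r) = algebraMap A Bh r := rfl
    have h2 : (Ideal.Quotient.mk (Ideal.span
        {(C (algebraMap A Ah a₁) * X 0 ^ 2 + C (algebraMap A Ah b₁) * X 0 * X 1 +
          C (algebraMap A Ah c₁) * X 1 ^ 2 - C α : MvPowerSeries (Fin 2) Ah)}))
        (C (algebraMap A Ah r)) = algebraMap A _ r := by
      show _ = Ideal.Quotient.mk _ (algebraMap A (MvPowerSeries (Fin 2) Ah) r)
      rw [MvPowerSeries.algebraMap_apply]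
    rw [h1, h2]
    exact (AlgEquiv.ofBijective ψ ⟨hinj, hs⟩).symm.commutes r

end Groth.Agent.H8.NodeQ
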